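import Groth.Agent.SMTLib.Determinantal
import Groth.Agent.BELib.Minor
import Groth.Agent.CommAlgDim.Integral
import Mathlib.FieldTheory.IsAlgClosed.AlgebraicClosure
import Mathlib.RingTheory.TensorProduct.MvPolynomial
import Mathlib.RingTheory.Flat.FaithfullyFlat.Algebra

/-!
# Dimension of determinantal rings over any field
-/

set_option autoImplicit false
set_option backward.isDefEq.respectTransparency false
set_option linter.style.haveILetI false

universe u

open MvPolynomial TensorProduct
attribute [local instance] MvPolynomial.algebraMvPolynomial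

namespace Groth.Agent.DetDimLib

variable (k K : Type u) [Field k] [Field K] [Algebra k K] (σ : Type)

set_option backward.isDefEq.respectTransparency true in
theorem comap_map_mvPolynomial (I : Ideal (MvPolynomial σ k)) :
    (I.map (algebraMap (MvPolynomial σ k) (MvPolynomial σ K))).comap
      (algebraMap (MvPolynomial σ k) (MvPolynomial σ K)) = I := by
  have hb : IsBaseChange (MvPolynomial σ k) (IsScalarTower.toAlgHom k K (MvPolynomial σ K)).toLinearMap :=
    Algebra.IsPushout.out
  haveI : Module.Free (MvPolynomial σ k) (MvPolynomial σ K) := Module.Free.of_equiv hb.equiv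
  haveI : Module.Flat (MvPolynomial σ k) (MvPolynomial σ K) := Module.Flat.of_free
  haveI : Nontrivial (MvPolynomial σ K) := inferInstance
  haveI : Module.FaithfullyFlat (MvPolynomial σ k) (MvPolynomial σ K) := inferInstance
  exact I.comap_map_eq_self_of_faithfullyFlat

/-- The Krull dimension of a quotient of a polynomial ring is invariant under algebraic extensions. -/
theorem ringKrullDim_quotient_map [Algebra.IsAlgebraic k K] (I : Ideal (MvPolynomial σ k)) :
    ringKrullDim (MvPolynomial σ K ⧸ I.map (algebraMap (MvPolynomial σ k) (MvPolynomial σ K))) =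
      ringKrullDim (MvPolynomial σ k ⧸ I) := by
  set J := I.map (algebraMap (MvPolynomial σ k) (MvPolynomial σ K))
  letI : Algebra (MvPolynomial σ k ⧸ I) (MvPolynomial σ K ⧸ J) :=
    (Ideal.quotientMap J (algebraMap (MvPolynomial σ k) (MvPolynomial σ K)) Ideal.le_comap_map).toAlgebra
  haveI : Algebra.IsIntegral (MvPolynomial σ k ⧸ I) (MvPolynomial σ K ⧸ J) := ⟨fun y => by
    obtain ⟨z, rfl⟩ := Ideal.Quotient.mk_surjective y
    obtain ⟨p, hp, hp0⟩ := Algebra.IsIntegral.isIntegral (R := MvPolynomial σ k) z
    refine ⟨p.map (Ideal.Quotient.mk I), hp.map _, ?_⟩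
    rw [Polynomial.eval₂_map, show (algebraMap (MvPolynomial σ k ⧸ I) (MvPolynomial σ K ⧸ J)).comp
      (Ideal.Quotient.mk I) = (Ideal.Quotient.mk J).comp (algebraMap (MvPolynomial σ k) (MvPolynomial σ K)) from rfl,
      ← Polynomial.hom_eval₂, hp0, map_zero]⟩
  exact CommAlgDim.ringKrullDim_eq_of_integral (MvPolynomial σ k ⧸ I) (MvPolynomial σ K ⧸ J)
    (Ideal.quotientMap_injective' (comap_map_mvPolynomial k K σ I).le)

/-- The dimension of the generic determinantal ring. -/
theorem ringKrullDim_generic (k : Type u) [Field k] (n m r : ℕ) (hm : 0 < m) (hrn : r ≤ n) (hrm : r ≤ m) :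
    ringKrullDim (MvPolynomial (Fin n × Fin m) k ⧸ CAlgX.minorIdeal
        (Matrix.of fun (i : Fin n) (j : Fin m) => (X (i, j) : MvPolynomial (Fin n × Fin m) k)) (r + 1)) =
      ((r * (n + m - r) : ℕ) : WithBot ℕ∞) := by
  rw [← ringKrullDim_quotient_map k (AlgebraicClosure k), ← BELib.minorIdeal_map]
  have h := (SMTLib.determinantal (K := AlgebraicClosure k) (m := n) (n := m) (s := r) hm hrm hrn).2.2.2
  have e : (Matrix.of fun (i : Fin n) (j : Fin m) => (X (i, j) : MvPolynomial (Fin n × Fin m) k)).map
      (algebraMap (MvPolynomial (Fin n × Fin m) k) (MvPolynomial (Fin n × Fin m) (AlgebraicClosure k))) =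
      W4bk4grassmannian.genMatrix (AlgebraicClosure k) n m := by
    ext i j : 1
    simp [W4bk4grassmannian.genMatrix]
  rw [e]
  exact h

end Groth.Agent.DetDimLib
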